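import Groth.Prelude.Def_Frob
import Groth.Agent.ModPairLib.Basic
import Mathlib.FieldTheory.IsAlgClosed.AlgebraicClosure
import Mathlib.FieldTheory.Perfect
import Mathlib.FieldTheory.Finite.Basic

/-! # The geometric Frobenius factors through an iterate of the absolute Frobenius -/

set_option autoImplicit false
set_option backward.isDefEq.respectTransparency false
set_option linter.style.haveILetI false

universe u

open CategoryTheory Limits AlgebraicGeometry

namespace Groth.Agent.LVTwist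

variable (p : ℕ) [Fact p.Prime]

/-- An iterate of the absolute Frobenius. -/
noncomputable def frobN (X : Scheme.{u}) [FrobSch.IsCharP X p] (N : ℕ) : X ⟶ X :=
  End.asHom (End.of (FrobSch.frob X p) ^ N)

@[simp] theorem frobN_zero (X : Scheme.{u}) [FrobSch.IsCharP X p] : frobN p X 0 = 𝟙 X := rfl

theorem frobN_succ (X : Scheme.{u}) [FrobSch.IsCharP X p] (N : ℕ) :
    frobN p X (N + 1) = frobN p X N ≫ FrobSch.frob X p := by
  show End.asHom (End.of (FrobSch.frob X p) ^ (N + 1)) = _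
  rw [pow_succ']
  rfl

@[reassoc]
theorem frobN_comp {X Y : Scheme.{u}} [FrobSch.IsCharP X p] [FrobSch.IsCharP Y p] (f : X ⟶ Y)
    (N : ℕ) : frobN p X N ≫ f = f ≫ frobN p Y N := by
  induction N with
  | zero => simp
  | succ N ih => rw [frobN_succ, frobN_succ, Category.assoc, FrobSch.frob_comp, reassoc_of% ih]

@[simp] theorem frobN_apply (X : Scheme.{u}) [FrobSch.IsCharP X p] (N : ℕ) (x : X) :
    frobN p X N x = x := by
  induction N with
  | zero => rfl
  | succ N ih => rw [frobN_succ, Scheme.Hom.comp_apply, ih, FrobSch.frob_apply]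

theorem frobN_preimage (X : Scheme.{u}) [FrobSch.IsCharP X p] (N : ℕ) (U : X.Opens) :
    frobN p X N ⁻¹ᵁ U = U :=
  TopologicalSpace.Opens.ext (Set.ext fun x => by
    show frobN p X N x ∈ U ↔ x ∈ U
    rw [frobN_apply])

theorem frobN_appLE (X : Scheme.{u}) [FrobSch.IsCharP X p] (N : ℕ) (U : X.Opens)
    (e : U ≤ frobN p X N ⁻¹ᵁ U) (s : Γ(X, U)) :
    (frobN p X N).appLE U U e s = s ^ p ^ N := by
  induction N with
  | zero =>
    rw [pow_zero, pow_one]
    show ((𝟙 X : X ⟶ X).appLE U U e) s = s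
    have h0 : (𝟙 X : X ⟶ X).appLE U U e = 𝟙 _ := by
      rw [Scheme.Hom.appLE, Scheme.Hom.id_app, Category.id_comp]
      exact X.presheaf.map_id _
    rw [h0]
    rfl
  | succ N ih =>
    have e1 : U ≤ frobN p X N ⁻¹ᵁ U := (frobN_preimage p X N U).ge
    have e2 : U ≤ FrobSch.frob X p ⁻¹ᵁ U := le_rfl
    have h : (frobN p X (N + 1)).appLE U U e =
        (FrobSch.frob X p).appLE U U e2 ≫ (frobN p X N).appLE U U e1 := by
      rw [Scheme.Hom.appLE_comp_appLE]
      simp only [frobN_succ]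
    rw [h, CommRingCat.comp_apply]
    have h2 : (FrobSch.frob X p).appLE U U e2 s = s ^ p := by
      show ((FrobSch.frob X p).app U ≫ X.presheaf.map (homOfLE e2).op) s = _
      rw [CommRingCat.comp_apply]
      refine Eq.trans ?_ (FrobSch.frob_app X p U s)
      exact congr($(X.presheaf.map_id _) ((FrobSch.frob X p).app U s))
    rw [h2, map_pow, ih, ← pow_mul, pow_succ]

/-- The Frobenius of the spectrum of a ring of characteristic `p`. -/
theorem frobN_Spec (R : Type u) [CommRing R] [CharP R p] (N : ℕ) :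
    frobN p (Spec (CommRingCat.of R)) N = Spec.map (CommRingCat.ofHom (iterateFrobenius R p N)) := by
  apply AlgebraicGeometry.ext_of_isAffine
  ext s
  have h1 : (frobN p (Spec (CommRingCat.of R)) N).appTop s = s ^ p ^ N := by
    show (frobN p (Spec (CommRingCat.of R)) N).app ⊤ s = _
    rw [Scheme.Hom.app_eq_appLE]
    exact frobN_appLE p _ N ⊤ le_rfl s
  obtain ⟨r, rfl⟩ := (Scheme.ΓSpecIso (CommRingCat.of R)).commRingCatIsoToRingEquiv.symm.surjective s
  refine h1.trans ?_
  show _ = ((Scheme.ΓSpecIso (CommRingCat.of R)).inv ≫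
    (Spec.map (CommRingCat.ofHom (iterateFrobenius R p N))).appTop) r
  rw [← Scheme.ΓSpecIso_inv_naturality, CommRingCat.comp_apply, ← map_pow]
  rfl

/-- A geometric Frobenius differs from an iterate of the absolute one by an automorphism. -/
theorem exists_factor {C C₀ : Scheme.{u}} (k₀ : Type u) [Field k₀] [Fintype k₀] [CharP k₀ p] (e : ℕ)
    (hq : Fintype.card k₀ = p ^ e) (K : Type u) [Field K] [Algebra k₀ K] [IsAlgClosure k₀ K]
    (f₀ : C₀ ⟶ Spec (CommRingCat.of k₀)) [FrobSch.IsCharP C₀ p]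
    (πC₀ : C ⟶ C₀) (πK : C ⟶ Spec (CommRingCat.of K))
    (hC : IsPullback πC₀ πK f₀ (Spec.map (CommRingCat.ofHom (algebraMap k₀ K))))
    (n : ℕ) (Fr : C ⟶ C)
    (hFr₀ : Fr ≫ πC₀ = πC₀ ≫ End.asHom (End.of (FrobSch.frob C₀ p) ^ (e * n)))
    (hFrK : Fr ≫ πK = πK) :
    ∃ (_ : FrobSch.IsCharP C p) (Ψ : C ⟶ C), IsIso Ψ ∧ Fr = frobN p C (e * n) ≫ Ψ := by
  haveI : CharP K p := charP_of_injective_algebraMap (algebraMap k₀ K).injective p
  haveI : IsAlgClosed K := IsAlgClosure.isAlgClosed k₀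
  haveI : FrobSch.IsCharP C p := FrobSch.IsCharP.of_hom πK p
  refine ⟨inferInstance, ?_⟩
  let E : K ≃+* K := iterateFrobeniusEquiv K p (e * n)
  have hE : ∀ a : k₀, E (algebraMap k₀ K a) = algebraMap k₀ K a := fun a => by
    rw [iterateFrobeniusEquiv_def, ← map_pow, pow_mul p e n, ← hq, FiniteField.pow_card_pow]
  let φ : Spec (CommRingCat.of K) ≅ Spec (CommRingCat.of K) :=
    (Scheme.Spec.mapIso (E.toCommRingCatIso).op)
  have hφ : φ.hom = frobN p (Spec (CommRingCat.of K)) (e * n) := (frobN_Spec p K (e * n)).symm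
  have hφk : φ.hom ≫ Spec.map (CommRingCat.ofHom (algebraMap k₀ K)) =
      Spec.map (CommRingCat.ofHom (algebraMap k₀ K)) := by
    show Spec.map _ ≫ _ = _
    rw [← Spec.map_comp]
    congr 1
    ext a
    exact hE a
  have hφk' : φ.inv ≫ Spec.map (CommRingCat.ofHom (algebraMap k₀ K)) =
      Spec.map (CommRingCat.ofHom (algebraMap k₀ K)) := by
    rw [Iso.inv_comp_eq, hφk]
  let Ψ : C ⟶ C := hC.lift πC₀ (πK ≫ φ.inv) (by rw [Category.assoc, hφk', hC.w])
  let Ψ' : C ⟶ C := hC.lift πC₀ (πK ≫ φ.hom) (by rw [Category.assoc, hφk, hC.w])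
  refine ⟨Ψ, ⟨Ψ', ?_, ?_⟩, ?_⟩
  · apply hC.hom_ext
    · simp [Ψ, Ψ']
    · simp [Ψ, Ψ']
  · apply hC.hom_ext
    · simp [Ψ, Ψ']
    · simp [Ψ, Ψ']
  · apply hC.hom_ext
    · rw [hFr₀, Category.assoc, hC.lift_fst]
      exact (frobN_comp p πC₀ (e * n)).symm
    · rw [hFrK, Category.assoc, hC.lift_snd, frobN_comp_assoc p πK (e * n), ← hφ, Iso.hom_inv_id,
        Category.comp_id]

/-- The ideal of a pullback along an iterate of Frobenius is contained in the corresponding power of
the radical of any ideal sheaf with a smaller support. -/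
theorem comap_frobN_le {C : Scheme.{u}} [FrobSch.IsCharP C p] (N : ℕ) (I : C.IdealSheafData)
    (J : C.IdealSheafData) (V : C.affineOpens)
    (h : (J.support : Set C) ∩ V ⊆ (I.comap (frobN p C N)).support) :
    (I.comap (frobN p C N)).ideal V ≤ (J.ideal V).radical ^ (p ^ N) := by
  have e : V.1 ≤ frobN p C N ⁻¹ᵁ V.1 := (frobN_preimage p C N V.1).ge
  have hrad : (I.comap (frobN p C N)).ideal V ≤ (J.ideal V).radical := by
    refine Ideal.le_radical.trans ?_
    rw [← PrimeSpectrum.vanishingIdeal_zeroLocus_eq_radical,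
      ← PrimeSpectrum.vanishingIdeal_zeroLocus_eq_radical]
    refine PrimeSpectrum.vanishingIdeal_anti_mono ?_
    intro P hP
    have h1 : V.2.fromSpec P ∈ (J.support : Set C) ∩ V := by
      refine ⟨?_, by rw [SetLike.mem_coe, ← SetLike.mem_coe, ← V.2.range_fromSpec]; exact ⟨P, rfl⟩⟩
      have : V.2.fromSpec P ∈ V.2.fromSpec '' PrimeSpectrum.zeroLocus (J.ideal V) := ⟨P, hP, rfl⟩
      rw [IsAffineOpen.fromSpec_image_zeroLocus, ← J.coe_support_inter] at this
      exact this.1
    have h2 : V.2.fromSpec P ∈ ((I.comap (frobN p C N)).support : Set C) ∩ V := ⟨h h1, h1.2⟩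
    rw [Scheme.IdealSheafData.coe_support_inter, ← IsAffineOpen.fromSpec_image_zeroLocus V.2] at h2
    obtain ⟨P', hP', hPP'⟩ := h2
    haveI := V.2.isOpenImmersion_fromSpec
    exact V.2.fromSpec.isOpenEmbedding.injective hPP' ▸ hP'
  rw [ModPairLib.ideal_comap I (frobN p C N) V V e, Ideal.map_le_iff_le_comap]
  intro g hg
  rw [Ideal.mem_comap]
  show (frobN p C N).appLE V.1 V.1 e g ∈ _
  rw [frobN_appLE]
  refine Ideal.pow_mem_pow ?_ _
  have hpow : g ^ p ^ N ∈ (J.ideal V).radical := by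
    apply hrad
    rw [ModPairLib.ideal_comap I (frobN p C N) V V e]
    have := Ideal.mem_map_of_mem ((frobN p C N).appLE V.1 V.1 e).hom hg
    rwa [frobN_appLE] at this
  exact (J.ideal V).radical_isRadical ⟨p ^ N, hpow⟩

end Groth.Agent.LVTwist
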