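import Groth.Agent.LVTwist.Frob
import Groth.Agent.ModPairLib.BlowUp
import Mathlib.RingTheory.Ideal.IdempotentFG
import Mathlib.AlgebraicGeometry.Morphisms.QuasiFinite
import Mathlib.AlgebraicGeometry.Morphisms.Immersion
import Mathlib.AlgebraicGeometry.Noetherian

/-! # Contracting correspondences and twists by Frobenius -/

set_option autoImplicit false
set_option backward.isDefEq.respectTransparency false
set_option linter.style.haveILetI false

universe u

open CategoryTheory Limits AlgebraicGeometry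

namespace Groth.Agent.LVTwist

theorem comap_pow {X Y : Scheme.{u}} (I : Y.IdealSheafData) (f : X ⟶ Y) (m : ℕ) :
    (I ^ m).comap f = I.comap f ^ m := by
  induction m with
  | zero =>
    have h1 : ∀ {Z : Scheme.{u}} (J : Z.IdealSheafData), J ^ 0 = ⊤ := fun J => by
      ext U : 2
      rw [Scheme.IdealSheafData.ideal_pow, Pi.pow_apply, pow_zero, Ideal.one_eq_top]
      rfl
    rw [h1, h1, Scheme.IdealSheafData.comap_top]
  | succ m ih =>
    have h1 : ∀ {Z : Scheme.{u}} (J : Z.IdealSheafData), J ^ (m + 1) = J ^ m * J := fun J => by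
      ext U : 2
      simp only [Scheme.IdealSheafData.ideal_pow, Scheme.IdealSheafData.ideal_mul, Pi.pow_apply,
        Pi.mul_apply, pow_succ]
    rw [h1, h1, ModPairLib.ideal_comap_mul, ih]

/-- A stable power of an ideal sheaf on a locally Noetherian scheme has open support. -/
theorem isOpen_support_of_pow_le {X : Scheme.{u}} [IsLocallyNoetherian X] (K : X.IdealSheafData)
    (k₀ : ℕ) (h : K ^ k₀ ≤ K ^ (k₀ + 1)) : IsOpen (K.support : Set X) := by
  rw [isOpen_iff_forall_mem_open]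
  intro x hx
  obtain ⟨_, ⟨V, hV, rfl⟩, hxV, -⟩ :=
    X.isBasis_affineOpens.exists_subset_of_mem_open (Set.mem_univ x) isOpen_univ
  haveI : IsNoetherianRing Γ(X, V) := IsLocallyNoetherian.component_noetherian ⟨V, hV⟩
  have hN := h ⟨V, hV⟩
  rw [Scheme.IdealSheafData.ideal_pow, Scheme.IdealSheafData.ideal_pow, Pi.pow_apply,
    Pi.pow_apply] at hN
  have heq : ∀ m, K.ideal ⟨V, hV⟩ ^ k₀ ≤ K.ideal ⟨V, hV⟩ ^ (k₀ + m) := by
    intro m
    induction m with
    | zero => exact le_rfl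
    | succ m ih =>
      refine ih.trans ?_
      rw [pow_add, show k₀ + (m + 1) = (k₀ + 1) + m by omega, pow_add _ (k₀ + 1) m]
      exact Ideal.mul_mono_left hN
  have hidem : IsIdempotentElem (K.ideal ⟨V, hV⟩ ^ (k₀ + 1)) := by
    refine le_antisymm Ideal.mul_le_right ?_
    rw [← pow_add]
    refine (Ideal.pow_le_pow_right (Nat.le_succ k₀)).trans ?_
    exact (heq (k₀ + 1 + 1)).trans (le_of_eq (by congr 1; omega))
  obtain ⟨ε, hε, hεN⟩ := (Ideal.isIdempotentElem_iff_of_fg _ (IsNoetherian.noetherian _)).mp hidem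
  have hz : PrimeSpectrum.zeroLocus (K.ideal ⟨V, hV⟩ : Set Γ(X, V)) =
      PrimeSpectrum.basicOpen (1 - ε) := by
    rw [← PrimeSpectrum.zeroLocus_pow _ (Nat.succ_ne_zero k₀), hεN, Ideal.submodule_span_eq,
      PrimeSpectrum.zeroLocus_span]
    ext P
    have h0 : ε * (1 - ε) = 0 := by rw [mul_sub, mul_one, hε.eq, sub_self]
    simp only [PrimeSpectrum.mem_zeroLocus, Set.singleton_subset_iff, SetLike.mem_coe,
      PrimeSpectrum.mem_basicOpen]
    refine ⟨fun hm hm' => P.isPrime.ne_top ((Ideal.eq_top_iff_one _).mpr ?_), fun hm => ?_⟩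
    · have := Ideal.add_mem _ hm hm'
      rwa [add_sub_cancel] at this
    · exact (P.isPrime.mem_or_mem (h0 ▸ P.asIdeal.zero_mem)).resolve_right hm
  refine ⟨(K.support : Set X) ∩ V, Set.inter_subset_left, ?_, hx, hxV⟩
  haveI := hV.isOpenImmersion_fromSpec
  rw [K.coe_support_inter ⟨V, hV⟩, ← IsAffineOpen.fromSpec_image_zeroLocus hV, hz]
  exact hV.fromSpec.isOpenEmbedding.isOpenMap _ (PrimeSpectrum.basicOpen (1 - ε)).isOpen

/-- A correspondence contracting near a closed subscheme: the fixed points over it form an open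
subset of the fixed points. -/
theorem isOpen_preimage_support {k : Type u} [Field k] {C X Fx : Scheme.{u}}
    (pC : C ⟶ Spec (CommRingCat.of k)) [LocallyOfFiniteType pC]
    (pX : X ⟶ Spec (CommRingCat.of k)) (c₁ c₂ : C ⟶ X) (hc : c₁ ≫ pX = c₂ ≫ pX)
    (i : Fx ⟶ C) (δ : Fx ⟶ X) (hF : IsPullback i δ (pullback.lift c₁ c₂ hc) (pullback.diagonal pX))
    (I : X.IdealSheafData) (W : C.Opens) (hW : Set.range i.base ⊆ (W : Set C))
    (k₀ : ℕ) (hpow : I.comap (W.ι ≫ c₁) ^ k₀ ≤ I.comap (W.ι ≫ c₂) ^ (k₀ + 1)) :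
    IsOpen (δ.base ⁻¹' (I.support : Set X)) := by
  have h1 : i ≫ c₁ = δ := by
    have := congrArg (· ≫ pullback.fst pX pX) hF.w
    simpa using this
  have h2 : i ≫ c₂ = δ := by
    have := congrArg (· ≫ pullback.snd pX pX) hF.w
    simpa using this
  haveI : IsImmersion i := MorphismProperty.of_isPullback hF.flip (inferInstance : IsImmersion (pullback.diagonal pX))
  haveI : IsLocallyNoetherian Fx := LocallyOfFiniteType.isLocallyNoetherian (i ≫ pC)
  let iW : Fx ⟶ W := IsOpenImmersion.lift W.ι i (by rwa [Scheme.Opens.range_ι])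
  have hiW : iW ≫ W.ι = i := IsOpenImmersion.lift_fac _ _ _
  have key := Scheme.IdealSheafData.comap_mono iW hpow
  simp only [comap_pow, ← Scheme.IdealSheafData.comap_comp, reassoc_of% hiW, h1, h2] at key
  have := isOpen_support_of_pow_le (I.comap δ) k₀ key
  rwa [Scheme.IdealSheafData.support_comap, TopologicalSpace.Closeds.coe_preimage] at this

/-- A twist of a correspondence by a high power of Frobenius is contracting near closed points. -/
theorem exists_contracting {C C₀ X : Scheme.{u}}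
    (p : ℕ) [Fact p.Prime] (k₀ : Type u) [Field k₀] [Fintype k₀] [CharP k₀ p] (e : ℕ)
    (hq : Fintype.card k₀ = p ^ e) (K : Type u) [Field K] [Algebra k₀ K] [IsAlgClosure k₀ K]
    (f₀ : C₀ ⟶ Spec (CommRingCat.of k₀)) [FrobSch.IsCharP C₀ p]
    (πC₀ : C ⟶ C₀) (πK : C ⟶ Spec (CommRingCat.of K))
    (hC : IsPullback πC₀ πK f₀ (Spec.map (CommRingCat.ofHom (algebraMap k₀ K))))
    (n : ℕ) (Fr : C ⟶ C)
    (hFr₀ : Fr ≫ πC₀ = πC₀ ≫ End.asHom (End.of (FrobSch.frob C₀ p) ^ (e * n)))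
    (hFrK : Fr ≫ πK = πK)
    (pX : X ⟶ Spec (CommRingCat.of K))
    (c₁ c₂ : C ⟶ X) [LocallyQuasiFinite c₂]
    (hcomm : (Fr ≫ c₁) ≫ pX = c₂ ≫ pX) (d : ℕ) (hn : d < p ^ (e * n))
    (x : X) (hx : IsClosed ({x} : Set X))
    (hd : ((Scheme.IdealSheafData.vanishingIdeal ⟨{x}, hx⟩).comap c₂).radical ^ d ≤
        (Scheme.IdealSheafData.vanishingIdeal ⟨{x}, hx⟩).comap c₂) :
    ∃ W : C.Opens,
      (pullback.lift (Fr ≫ c₁) c₂ hcomm).base ⁻¹' Set.range (pullback.diagonal pX).base ⊆ (W : Set C) ∧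
      (Scheme.IdealSheafData.vanishingIdeal ⟨{x}, hx⟩).comap (W.ι ≫ Fr ≫ c₁) ≤
        (Scheme.IdealSheafData.vanishingIdeal ⟨{x}, hx⟩).comap (W.ι ≫ c₂) ∧
      ∃ k : ℕ, (Scheme.IdealSheafData.vanishingIdeal ⟨{x}, hx⟩).comap (W.ι ≫ Fr ≫ c₁) ^ k ≤
        (Scheme.IdealSheafData.vanishingIdeal ⟨{x}, hx⟩).comap (W.ι ≫ c₂) ^ (k + 1) := by
  obtain ⟨hCp, Ψ, -, hΨ⟩ := exists_factor p k₀ e hq K f₀ πC₀ πK hC n Fr hFr₀ hFrK
  set I := Scheme.IdealSheafData.vanishingIdeal (X := X) ⟨{x}, hx⟩ with hI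
  let J := I.comap c₂
  let L := I.comap (Fr ≫ c₁)
  have hIs : (I.support : Set X) = {x} := by
    rw [hI, Scheme.IdealSheafData.coe_support_vanishingIdeal]
    rfl
  have hJs : (J.support : Set C) = c₂.base ⁻¹' {x} := by
    rw [Scheme.IdealSheafData.support_comap, TopologicalSpace.Closeds.coe_preimage, hIs]
  have hLs : (L.support : Set C) = (Fr ≫ c₁).base ⁻¹' {x} := by
    rw [Scheme.IdealSheafData.support_comap, TopologicalSpace.Closeds.coe_preimage, hIs]
  have hclosed : IsClosed ((J.support : Set C) \ (L.support : Set C)) := by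
    haveI : DiscreteTopology (J.support : Set C) := by
      rw [hJs]; exact (c₂.isDiscrete_preimage_singleton x).to_subtype
    have h := J.support.isClosed.isClosedEmbedding_subtypeVal.isClosedMap
      {z | (z : C) ∉ (L.support : Set C)} (isClosed_discrete _)
    convert h using 1
    ext z
    simp [Set.mem_sdiff, and_comm]
  let W : C.Opens := ⟨_, hclosed.isOpen_compl⟩
  have hVL : ∀ V : C.affineOpens, (V.1 : Set C) ⊆ W →
      L.ideal V ≤ (J.ideal V).radical ^ (p ^ (e * n)) := by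
    intro V hV
    have e1 : L = (I.comap (Ψ ≫ c₁)).comap (frobN p C (e * n)) := by
      rw [← Scheme.IdealSheafData.comap_comp, ← Category.assoc, ← hΨ]
    rw [e1]
    refine comap_frobN_le p (e * n) _ J V fun z hz => ?_
    rw [← e1]
    by_contra hc
    exact hV hz.2 ⟨hz.1, hc⟩
  have hJd : ∀ V : C.affineOpens, (J.ideal V).radical ^ d ≤ J.ideal V := fun V => by
    have := hd V
    rwa [Scheme.IdealSheafData.ideal_pow, Pi.pow_apply] at this
  have himg : ∀ V : W.toScheme.affineOpens, ∃ (V' : C.affineOpens) (ev : V.1 ≤ W.ι ⁻¹ᵁ V'.1),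
      (V'.1 : Set C) ⊆ W :=
    fun V => ⟨⟨W.ι ''ᵁ V.1, V.2.image_of_isOpenImmersion W.ι⟩, (W.ι.preimage_image_eq V.1).ge, by
      rintro _ ⟨z, -, rfl⟩; exact z.2⟩
  refine ⟨W, ?_, ?_, d, ?_⟩
  · rintro z ⟨w, hw⟩ ⟨hzJ, hzL⟩
    have a1 := congrArg (pullback.fst pX pX).base hw
    have a2 := congrArg (pullback.snd pX pX).base hw
    rw [← Scheme.Hom.comp_apply, ← Scheme.Hom.comp_apply, pullback.diagonal_fst, pullback.lift_fst] at a1
    rw [← Scheme.Hom.comp_apply, ← Scheme.Hom.comp_apply, pullback.diagonal_snd, pullback.lift_snd] at a2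
    rw [hJs] at hzJ
    rw [hLs] at hzL
    exact hzL ((a1.symm.trans a2).trans hzJ)
  · intro V
    obtain ⟨V', ev, hV'⟩ := himg V
    rw [Scheme.IdealSheafData.comap_comp _ W.ι (Fr ≫ c₁), Scheme.IdealSheafData.comap_comp _ W.ι c₂,
      ModPairLib.ideal_comap L W.ι V' V ev, ModPairLib.ideal_comap J W.ι V' V ev]
    exact Ideal.map_mono ((hVL V' hV').trans ((Ideal.pow_le_pow_right hn.le).trans (hJd V')))
  · intro V
    obtain ⟨V', ev, hV'⟩ := himg V
    rw [Scheme.IdealSheafData.comap_comp _ W.ι (Fr ≫ c₁), Scheme.IdealSheafData.comap_comp _ W.ι c₂,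
      Scheme.IdealSheafData.ideal_pow, Scheme.IdealSheafData.ideal_pow, Pi.pow_apply, Pi.pow_apply,
      ModPairLib.ideal_comap L W.ι V' V ev, ModPairLib.ideal_comap J W.ι V' V ev, ← Ideal.map_pow,
      ← Ideal.map_pow]
    refine Ideal.map_mono ((pow_le_pow_left' (hVL V' hV') d).trans ?_)
    refine le_trans ?_ (pow_le_pow_left' (hJd V') (d + 1))
    rw [← pow_mul, ← pow_mul]
    refine Ideal.pow_le_pow_right ?_
    rw [mul_comm (p ^ _) d]
    exact Nat.mul_le_mul_left d hn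

end Groth.Agent.LVTwist
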